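import Cfsg.Agent.H678.HNT.Nine
import Cfsg.Agent.CpAutHN.Main
import Cfsg.Agent.OrdDiv.Table
import Cfsg.Agent.S0000

/-!
# The centraliser of a `3A` element of `HN` is `3 × A₉` (helper678)
-/

set_option autoImplicit false

namespace Cfsg.Agent.H678.HNT.Cent

open Cfsg Subgroup
open Cfsg.Agent
open Cfsg.Agent.CpAutHN.Pairs
open Cfsg.Agent.CpAutHN.Second
open Cfsg.Agent.CpAutHN.NineAlt
open Cfsg.Agent.H678.HNT

/-- The centraliser of `X1`. -/
abbrev C1 : Type := ↥(centralizer ({X1} : Set G))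

instance finite_G : Finite G := Nat.finite_of_card_ne_zero (by
  rw [Cfsg.Agent.KFacts.HN.Classes.card_HN]; norm_num)

/-- `X1` in its centraliser. -/
noncomputable def xx : C1 := ⟨X1, mem_centralizer_singleton_iff.2 rfl⟩

theorem xx_comm (y : C1) : xx * y = y * xx := Subtype.ext (mem_centralizer_singleton_iff.1 y.2).symm

theorem order_xx : orderOf xx = 3 := by rw [← Subgroup.orderOf_coe]; exact order_X1

theorem xx_core : xx ∈ pPrimeCore 2 C1 := by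
  have h : zpowers xx ≤ pPrimeCore 2 C1 := by
    refine Lib.Cores.le_pPrimeCore ?_ ?_
    · constructor
      intro z hz y
      obtain ⟨k, rfl⟩ := mem_zpowers_iff.1 hz
      rw [← ((show Commute xx y from xx_comm y).zpow_left k).eq, mul_inv_cancel_right]
      exact zpow_mem (mem_zpowers xx) k
    · rw [Nat.card_zpowers, order_xx]
      norm_num
  exact h (mem_zpowers xx)

/-- The subgroup `A9` of `C(X1)`. -/
noncomputable abbrev DD : Subgroup C1 := Ψ.range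

instance simple_DD : IsSimpleGroup ↥DD := simple_range

theorem two_dvd : 2 ∣ Nat.card ↥DD := by rw [card_range]; norm_num

theorem card_quot : Nat.card (↥(normalClosure (DD : Set C1)) ⧸ pPrimeCore 2 ↥(normalClosure (DD : Set C1))) =
    Nat.card ↥DD := by
  obtain ⟨T, hT, -⟩ := exists_sylow_C
  have hs := simple_quot DD two_dvd T hT
  have hDM : DD ≤ normalClosure (DD : Set C1) := le_normalClosure
  have hMn : (normalClosure (DD : Set C1)).Normal := normalClosure_normal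
  have hmap := Lib.Cores.map_subtype_pPrimeCore 2 hMn
  let f : A9 →* (↥(normalClosure (DD : Set C1)) ⧸ pPrimeCore 2 ↥(normalClosure (DD : Set C1))) :=
    (QuotientGroup.mk' _).comp ((inclusion hDM).comp Ψ.rangeRestrict)
  have hf : Function.Injective f := by
    rw [injective_iff_map_eq_one]
    intro a ha
    have h0 := (QuotientGroup.eq_one_iff _).1 ha
    have h1 : (Ψ a : C1) ∈ (pPrimeCore 2 ↥(normalClosure (DD : Set C1))).map (normalClosure (DD : Set C1)).subtype :=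
      ⟨_, h0, rfl⟩
    rw [hmap] at h1
    have h2 : (Ψ a : C1) ∈ DD ⊓ pPrimeCore 2 C1 := ⟨⟨a, rfl⟩, h1.2⟩
    rw [inf_core DD two_dvd, mem_bot] at h2
    exact (injective_iff_map_eq_one Ψ).1 Ψ_inj a h2
  have h9 : 181440 ∣ Nat.card (↥(normalClosure (DD : Set C1)) ⧸ pPrimeCore 2 ↥(normalClosure (DD : Set C1))) := by
    rw [← card_A9, Nat.card_congr (MonoidHom.ofInjective hf).toEquiv]
    exact card_subgroup_dvd_card _
  have hd : Nat.card (↥(normalClosure (DD : Set C1)) ⧸ pPrimeCore 2 ↥(normalClosure (DD : Set C1))) ∣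
      2 ^ 6 * 3 ^ 6 * 5 ^ 6 * 7 * 11 * 19 :=
    ((card_quotient_dvd_card _).trans (card_subgroup_dvd_card _)).trans card_C_dvd
  have hna : ¬ ∀ a b : (↥(normalClosure (DD : Set C1)) ⧸ pPrimeCore 2 ↥(normalClosure (DD : Set C1))),
      a * b = b * a := by
    intro h
    apply CpAutHN.Main.not_comm_A9
    apply hf
    rw [map_mul, map_mul]
    exact h _ _
  obtain ⟨e⟩ := CpAutHN.Main.alt_nine OrdDiv.table S0000.result hna hd h9
  rw [Nat.card_congr e.toEquiv, card_range]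
  exact card_A9

theorem s9_core {j : C1} (hj : j ∈ pPrimeCore 2 C1) {a : A9} (h : ∃ i : ℤ, j = xx ^ i * Ψ a) : j ∈ zpowers xx := by
  obtain ⟨i, h⟩ := h
  have h1 : Ψ a ∈ DD ⊓ pPrimeCore 2 C1 := by
    refine ⟨⟨a, rfl⟩, ?_⟩
    have : Ψ a = (xx ^ i)⁻¹ * j := by rw [h]; group
    rw [this]
    exact (pPrimeCore 2 C1).mul_mem ((pPrimeCore 2 C1).inv_mem ((pPrimeCore 2 C1).zpow_mem xx_core i)) hj
  rw [inf_core DD two_dvd, mem_bot] at h1
  rw [h, h1, mul_one]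
  exact zpow_mem (mem_zpowers xx) i

/-- The centraliser of `s` in `C(X1)`. -/
theorem cent_s {c : C1} (hc : c * Ψ s9 = Ψ s9 * c) : ∃ i : ℤ, ∃ a : A9, a * s9 = s9 * a ∧ c = xx ^ i * Ψ a := by
  have hcomm : ∀ (i : ℤ) (a : A9), xx ^ i * Ψ a = Ψ a * xx ^ i := fun i a =>
    ((show Commute xx (Ψ a) from xx_comm _).zpow_left i).eq
  have hbot : ∀ (i : ℤ) (a : A9), xx ^ i * Ψ a = 1 → xx ^ i = 1 ∧ a = 1 := by
    intro i a h
    have h1 : Ψ a ∈ DD ⊓ pPrimeCore 2 C1 := by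
      refine ⟨⟨a, rfl⟩, ?_⟩
      have : Ψ a = (xx ^ i)⁻¹ := by rw [eq_inv_iff_mul_eq_one, ← hcomm]; exact h
      rw [this]
      exact (pPrimeCore 2 C1).inv_mem ((pPrimeCore 2 C1).zpow_mem xx_core i)
    rw [inf_core DD two_dvd, mem_bot] at h1
    have h2 := (injective_iff_map_eq_one Ψ).1 Ψ_inj a h1
    refine ⟨?_, h2⟩
    rw [h1, mul_one] at h
    exact h
  let f : ↥(zpowers xx) × ↥(centralizer ({s9} : Set A9)) → ↥(centralizer ({Ψ s9} : Set C1)) := fun p =>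
    ⟨(p.1 : C1) * Ψ p.2, by
      rw [mem_centralizer_singleton_iff]
      obtain ⟨i, hi⟩ := mem_zpowers_iff.1 p.1.2
      have h1 := mem_centralizer_singleton_iff.1 p.2.2
      rw [← hi]
      calc xx ^ i * Ψ p.2 * Ψ s9 = xx ^ i * Ψ ((p.2 : A9) * s9) := by rw [map_mul, mul_assoc]
        _ = Ψ (s9 * (p.2 : A9)) * xx ^ i := by rw [h1, hcomm]
        _ = Ψ s9 * (xx ^ i * Ψ p.2) := by rw [map_mul, mul_assoc, hcomm]⟩
  have hf : Function.Injective f := by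
    rintro ⟨⟨u, hu⟩, ⟨a, ha⟩⟩ ⟨⟨v, hv⟩, ⟨b, hb⟩⟩ h
    obtain ⟨i, rfl⟩ := mem_zpowers_iff.1 hu
    obtain ⟨j, rfl⟩ := mem_zpowers_iff.1 hv
    have h1 : xx ^ i * Ψ a = xx ^ j * Ψ b := congrArg Subtype.val h
    have h2 : xx ^ (-j + i) * Ψ (a * b⁻¹) = 1 := by
      rw [map_mul, map_inv, zpow_add, mul_assoc, ← mul_assoc (xx ^ i), h1]
      group
    obtain ⟨h3, h4⟩ := hbot _ _ h2
    have h5 : xx ^ i = xx ^ j := by
      rw [zpow_add, zpow_neg, inv_mul_eq_one] at h3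
      exact h3.symm
    have h6 : a = b := mul_inv_eq_one.1 h4
    subst h6
    exact Prod.ext (Subtype.ext h5) rfl
  have hcard : Nat.card ↥(centralizer ({Ψ s9} : Set C1)) ≤ 576 := Nat.le_of_dvd (by norm_num) card_cent_s9
  have hcard2 : 576 ≤ Nat.card (↥(zpowers xx) × ↥(centralizer ({s9} : Set A9))) := by
    rw [Nat.card_prod, Nat.card_zpowers, order_xx]
    have := Nine.card_cent_s9
    omega
  have hs : Function.Surjective f :=
    ((Nat.bijective_iff_injective_and_card f).2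
      ⟨hf, le_antisymm (Nat.card_le_card_of_injective f hf) (hcard.trans hcard2)⟩).2
  obtain ⟨⟨⟨u, hu⟩, ⟨a, ha⟩⟩, h⟩ := hs ⟨c, mem_centralizer_singleton_iff.2 hc⟩
  obtain ⟨i, rfl⟩ := mem_zpowers_iff.1 hu
  exact ⟨i, a, mem_centralizer_singleton_iff.1 ha, (congrArg Subtype.val h).symm⟩

theorem card_cent_conj {H : Type*} [Group H] (g y : H) :
    Nat.card ↥(centralizer ({g * y * g⁻¹} : Set H)) = Nat.card ↥(centralizer ({y} : Set H)) := by
  refine Nat.card_congr ⟨fun u => ⟨g⁻¹ * u * g, ?_⟩, fun u => ⟨g * u * g⁻¹, ?_⟩, fun u => ?_, fun u => ?_⟩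
  · have h := mem_centralizer_singleton_iff.1 u.2
    rw [mem_centralizer_singleton_iff]
    calc g⁻¹ * (u : H) * g * y = g⁻¹ * ((u : H) * (g * y * g⁻¹)) * g := by group
      _ = y * (g⁻¹ * u * g) := by rw [h]; group
  · have h := mem_centralizer_singleton_iff.1 u.2
    rw [mem_centralizer_singleton_iff]
    calc g * (u : H) * g⁻¹ * (g * y * g⁻¹) = g * ((u : H) * y) * g⁻¹ := by group
      _ = g * y * g⁻¹ * (g * u * g⁻¹) := by rw [h]; group
  · apply Subtype.ext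
    show g * (g⁻¹ * (u : H) * g) * g⁻¹ = u
    group
  · apply Subtype.ext
    show g⁻¹ * (g * (u : H) * g⁻¹) * g = u
    group

theorem s_sq : Ψ s9 * Ψ s9 = 1 := by rw [← map_mul, s9_sq, map_one]

theorem s_ne : Ψ s9 ≠ 1 := fun h => s9_ne ((injective_iff_map_eq_one Ψ).1 Ψ_inj _ h)

theorem prod (h : C1) : ∃ d ∈ DD, ∃ j ∈ pPrimeCore 2 C1, h = d * j := by
  refine mem_prod DD two_dvd card_quot (s := Ψ s9) ⟨s9, rfl⟩ s_sq s_ne ?_ ?_ h
  · rintro _ ⟨δ, rfl⟩ h1 h2 ⟨g, hg⟩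
    have h3 : δ * δ = 1 := Ψ_inj (by rw [map_mul, h1, map_one])
    have h4 : δ ≠ 1 := fun h => h2 (by rw [h, map_one])
    rcases Nine.cases h3 h4 with ⟨c, hc⟩ | ⟨c, hc, hcc⟩
    · exact ⟨Ψ c, ⟨c, rfl⟩, by rw [← map_inv, ← map_mul, ← map_mul, hc]⟩
    · exfalso
      have h5 : orderOf (⟨Ψ c, mem_centralizer_singleton_iff.2 (by rw [← map_mul, hcc, map_mul])⟩ :
          ↥(centralizer ({Ψ δ} : Set C1))) = 5 := by
        rw [Subgroup.orderOf_mk, orderOf_injective Ψ Ψ_inj, hc]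
      have h6 : 5 ∣ Nat.card ↥(centralizer ({Ψ δ} : Set C1)) := h5 ▸ orderOf_dvd_natCard _
      rw [← hg, card_cent_conj] at h6
      have h7 : 5 ∣ 576 := h6.trans card_cent_s9
      norm_num at h7
  · intro c hc
    obtain ⟨i, a, -, e⟩ := cent_s hc
    refine ⟨Ψ a, ⟨a, rfl⟩, xx ^ i, (pPrimeCore 2 C1).zpow_mem xx_core i, ?_⟩
    rw [e]
    exact ((show Commute xx (Ψ a) from xx_comm _).zpow_left i).eq

theorem fix {u : A9} (hu : ∃ c : A9, c * s9 * c⁻¹ = u) : ∀ j ∈ pPrimeCore 2 C1, j * Ψ u = Ψ u * j → j ∈ zpowers xx := by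
  obtain ⟨c, rfl⟩ := hu
  intro j hj hju
  have hJn : (pPrimeCore 2 C1).Normal := Lib.Cores.pPrimeCore_normal 2
  have h1 : ((Ψ c)⁻¹ * j * (Ψ c)⁻¹⁻¹) ∈ pPrimeCore 2 C1 := hJn.conj_mem j hj _
  have h2 : ((Ψ c)⁻¹ * j * (Ψ c)⁻¹⁻¹) * Ψ s9 = Ψ s9 * ((Ψ c)⁻¹ * j * (Ψ c)⁻¹⁻¹) := by
    rw [map_mul, map_mul, map_inv] at hju
    calc ((Ψ c)⁻¹ * j * (Ψ c)⁻¹⁻¹) * Ψ s9 = (Ψ c)⁻¹ * (j * (Ψ c * Ψ s9 * (Ψ c)⁻¹)) * Ψ c := by group
      _ = _ := by rw [hju]; group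
  obtain ⟨i, a, -, e⟩ := cent_s h2
  have h3 := s9_core h1 (a := a) ⟨i, e⟩
  obtain ⟨k, hk⟩ := mem_zpowers_iff.1 h3
  have h4 : j = xx ^ k := by
    have h5 : j = Ψ c * ((Ψ c)⁻¹ * j * (Ψ c)⁻¹⁻¹) * (Ψ c)⁻¹ := by group
    rw [h5, ← hk, ← ((show Commute xx (Ψ c) from xx_comm _).zpow_left k).eq, mul_inv_cancel_right]
  rw [h4]
  exact zpow_mem (mem_zpowers xx) k

theorem core_eq : pPrimeCore 2 C1 ≤ zpowers xx := by
  refine core_le xx_comm xx_core s_sq (t := Ψ a9) ?_ ?_ (fix ⟨1, by group⟩) (fix Nine.conj_a9) ?_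
  · rw [← map_mul, a9_sq, map_one]
  · rw [← map_mul, ← comm_as, map_mul]
  · rw [← map_mul]
    exact fix Nine.conj_s9a9

/-- **`C(X1) = ⟨X1⟩ × A₉`**. -/
theorem main (h : C1) : ∃ i : ℤ, ∃ a : A9, h = xx ^ i * Ψ a := by
  obtain ⟨_, ⟨a, rfl⟩, j, hj, e⟩ := prod h
  obtain ⟨i, rfl⟩ := mem_zpowers_iff.1 (core_eq hj)
  exact ⟨i, a, by rw [e]; exact ((show Commute xx (Ψ a) from xx_comm _).zpow_left i).eq.symm⟩

end Cfsg.Agent.H678.HNT.Cent
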