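import Cfsg.Agent.H678.HNT.Prod

/-!
# Involutions of `A₉` (helper678)
-/

set_option autoImplicit false

namespace Cfsg.Agent.H678.HNT.Nine

open Cfsg Subgroup Equiv.Perm
open Cfsg.Agent.CpAutHN.NineAlt

/-- `(0 1)(2 3)` -/
def p22 : Equiv.Perm (Fin 9) := cy9 [0, 1] * cy9 [2, 3]
/-- `(4 5 6 7 8)` -/
def c5 : Equiv.Perm (Fin 9) := cy9 [4, 5, 6, 7, 8]

theorem cycle_ps : ps.cycleType = {2, 2, 2, 2} := by decide +kernel
theorem cycle_p22 : p22.cycleType = {2, 2} := by decide +kernel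

theorem conj_of_cycle {δ : A9} (h : (δ : Equiv.Perm (Fin 9)).cycleType = {2, 2, 2, 2}) : ∃ c : A9, c * s9 * c⁻¹ = δ := by
  have h3 : IsConj ps (δ : Equiv.Perm (Fin 9)) := by
    rw [isConj_iff_cycleType_eq, cycle_ps, h]
  obtain ⟨c, hc⟩ := isConj_iff.1 h3
  rcases Int.units_eq_one_or (sign c) with h4 | h4
  · exact ⟨⟨c, mem_alternatingGroup.2 h4⟩, Subtype.ext hc⟩
  · refine ⟨⟨c * Equiv.swap 0 2, ?_⟩, Subtype.ext ?_⟩
    · rw [mem_alternatingGroup, map_mul, h4]
      decide +kernel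
    · show c * Equiv.swap 0 2 * ps * (c * Equiv.swap 0 2)⁻¹ = (δ : Equiv.Perm (Fin 9))
      have h5 : Equiv.swap (0 : Fin 9) 2 * ps = ps * Equiv.swap 0 2 := by decide +kernel
      rw [← hc]
      calc c * Equiv.swap 0 2 * ps * (c * Equiv.swap 0 2)⁻¹ =
          c * (Equiv.swap 0 2 * ps) * (Equiv.swap 0 2)⁻¹ * c⁻¹ := by group
        _ = c * ps * c⁻¹ := by rw [h5]; group

/-- an involution of `A9` is conjugate to `s9` or commutes with an element of order 5 -/
theorem cases {δ : A9} (h1 : δ * δ = 1) (h2 : δ ≠ 1) :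
    (∃ c : A9, c * s9 * c⁻¹ = δ) ∨ ∃ c : A9, orderOf c = 5 ∧ c * δ = δ * c := by
  have hδ : orderOf (δ : Equiv.Perm (Fin 9)) = 2 := by
    rw [Subgroup.orderOf_coe]
    have : Fact (Nat.Prime 2) := ⟨Nat.prime_two⟩
    exact orderOf_eq_prime (by rw [pow_two]; exact h1) h2
  obtain ⟨n, hn⟩ := cycleType_prime_order (σ := (δ : Equiv.Perm (Fin 9))) (by rw [hδ]; exact Nat.prime_two)
  rw [hδ] at hn
  have hsum := sum_cycleType_le (δ : Equiv.Perm (Fin 9))
  rw [hn, Multiset.sum_replicate, Fintype.card_fin, smul_eq_mul] at hsum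
  have hsign := sign_of_cycleType (δ : Equiv.Perm (Fin 9))
  rw [(mem_alternatingGroup.1 δ.2), hn, Multiset.sum_replicate, Multiset.card_replicate, smul_eq_mul] at hsign
  have hn4 : n = 1 ∨ n = 3 := by
    have h3 : n < 4 := by omega
    interval_cases n
    · exact absurd hsign (by decide)
    · exact Or.inl rfl
    · exact absurd hsign (by decide)
    · exact Or.inr rfl
  rcases hn4 with rfl | rfl
  · right
    have h3 : IsConj p22 (δ : Equiv.Perm (Fin 9)) := by
      rw [isConj_iff_cycleType_eq, cycle_p22, hn]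
      rfl
    obtain ⟨c, hc⟩ := isConj_iff.1 h3
    have hmem : c * c5 * c⁻¹ ∈ alternatingGroup (Fin 9) := by
      rw [mem_alternatingGroup, map_mul, map_mul, map_inv, mul_comm, inv_mul_cancel_left]
      decide +kernel
    refine ⟨⟨c * c5 * c⁻¹, hmem⟩, ?_, Subtype.ext ?_⟩
    · rw [Subgroup.orderOf_mk]
      have h4 := MulEquiv.orderOf_eq (MulAut.conj c) c5
      rw [MulAut.conj_apply] at h4
      rw [h4]
      have : Fact (Nat.Prime 5) := ⟨Nat.prime_five⟩
      exact orderOf_eq_prime (by decide +kernel) (by decide +kernel)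
    · show c * c5 * c⁻¹ * (δ : Equiv.Perm (Fin 9)) = δ * (c * c5 * c⁻¹)
      rw [← hc]
      have h5 : c5 * p22 = p22 * c5 := by decide +kernel
      calc c * c5 * c⁻¹ * (c * p22 * c⁻¹) = c * (c5 * p22) * c⁻¹ := by group
        _ = c * (p22 * c5) * c⁻¹ := by rw [h5]
        _ = _ := by group
  · left
    exact conj_of_cycle (by rw [hn]; rfl)

theorem card_cent_s9 : 192 ≤ Nat.card ↥(centralizer ({s9} : Set A9)) := by
  have h0 : Nat.card ↥(centralizer ({ps} : Set (Equiv.Perm (Fin 9)))) = 384 := by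
    have h := Equiv.Perm.nat_card_centralizer ps
    rw [cycle_ps] at h
    rw [h]
    decide +kernel
  have h1 : Nat.card ↥(centralizer ({s9} : Set A9)) =
      Nat.card ↥(centralizer ({ps} : Set (Equiv.Perm (Fin 9))) ⊓ alternatingGroup (Fin 9)) := by
    have h2 : centralizer ({s9} : Set A9) =
        (centralizer ({ps} : Set (Equiv.Perm (Fin 9)))).subgroupOf (alternatingGroup (Fin 9)) := by
      ext y
      rw [mem_centralizer_singleton_iff, mem_subgroupOf, mem_centralizer_singleton_iff]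
      exact Subtype.ext_iff
    rw [h2, ← inf_subgroupOf_right]
    exact Nat.card_congr (subgroupOfEquivOfLe inf_le_right).toEquiv
  have h3 := relIndex_mul_relIndex ⊥ (centralizer ({ps} : Set (Equiv.Perm (Fin 9))) ⊓ alternatingGroup (Fin 9))
    (centralizer ({ps} : Set (Equiv.Perm (Fin 9)))) bot_le inf_le_left
  rw [relIndex_bot_left, relIndex_bot_left, h0, inf_comm, inf_relIndex_right] at h3
  rw [h1, inf_comm]
  have h4 : (alternatingGroup (Fin 9)).relIndex (centralizer ({ps} : Set (Equiv.Perm (Fin 9)))) ∣ 2 := by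
    have h5 : (alternatingGroup (Fin 9)).index = 2 := alternatingGroup.index_eq_two
    rw [← h5]
    exact relIndex_dvd_index_of_normal _ _
  have h6 := Nat.le_of_dvd (by norm_num) h4
  nlinarith

theorem s9a9 : s9 * a9 * (s9 * a9) = 1 := by
  rw [← comm_as]
  calc a9 * s9 * (a9 * s9) = a9 * (s9 * a9) * s9 := by simp only [mul_assoc]
    _ = (a9 * a9) * (s9 * s9) := by rw [← comm_as]; simp only [mul_assoc]
    _ = 1 := by rw [a9_sq, s9_sq, one_mul]

theorem a9_ne : a9 ≠ 1 := fun h => absurd (congrArg Subtype.val h) (by change p2 ≠ 1; decide +kernel)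

theorem s9a9_ne : s9 * a9 ≠ 1 := fun h => absurd (congrArg Subtype.val h) (by change ps * p2 ≠ 1; decide +kernel)

theorem conj_a9 : ∃ c : A9, c * s9 * c⁻¹ = a9 := conj_of_cycle (by change p2.cycleType = _; decide +kernel)

theorem conj_s9a9 : ∃ c : A9, c * s9 * c⁻¹ = s9 * a9 := conj_of_cycle (by
  change (ps * p2).cycleType = _
  decide +kernel)

end Cfsg.Agent.H678.HNT.Nine
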