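import Cfsg.Agent.H678.HNT.SimpQ
import Mathlib.GroupTheory.FixedPointFree

/-!
# Groups with a simple subgroup containing a Sylow 2-subgroup, II (helper678)

* `mem_prod` : `X = D O(X)`;
* `core_le` : `O(X)` is central.
-/

set_option autoImplicit false

namespace Cfsg.Agent.H678.HNT

open Cfsg Subgroup
open Cfsg.Agent

universe u

variable {X : Type u} [Group X] [Finite X]

theorem not_two_dvd_core : ¬ 2 ∣ Nat.card ↥(pPrimeCore 2 X) :=
  (Nat.Prime.coprime_iff_not_dvd Nat.prime_two).1 (Lib.Cores.pPrimeCore_coprime (G := X) 2).symm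

theorem eq_one_of_sq {j : X} (hj : j ∈ pPrimeCore 2 X) (h : j * j = 1) : j = 1 := by
  by_contra hne
  have : Fact (Nat.Prime 2) := ⟨Nat.prime_two⟩
  have h1 : orderOf j = 2 := orderOf_eq_prime (by rw [pow_two]; exact h) hne
  have h2 : orderOf (⟨j, hj⟩ : pPrimeCore 2 X) ∣ Nat.card ↥(pPrimeCore 2 X) := orderOf_dvd_natCard _
  rw [orderOf_mk, h1] at h2
  exact not_two_dvd_core h2

theorem inf_core (D : Subgroup X) [hD : IsSimpleGroup ↥D] (h2D : 2 ∣ Nat.card D) : D ⊓ pPrimeCore 2 X = ⊥ := by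
  have h1 : ((pPrimeCore 2 X).subgroupOf D).Normal := inferInstance
  rcases h1.eq_bot_or_eq_top with h2 | h2
  · rw [eq_bot_iff]
    intro x hx
    have h3 : (⟨x, hx.1⟩ : ↥D) ∈ (pPrimeCore 2 X).subgroupOf D := hx.2
    rw [h2, mem_bot] at h3
    exact mem_bot.2 (congrArg Subtype.val h3)
  · exfalso
    exact not_two_dvd_core (h2D.trans (card_dvd_of_le (subgroupOf_eq_top.1 h2)))

/-- The normal closure of `D` is `D O(M)`. -/
theorem mem_closure (D : Subgroup X) [hD : IsSimpleGroup ↥D] (h2D : 2 ∣ Nat.card D)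
    (hcard : Nat.card (↥(normalClosure (D : Set X)) ⧸ pPrimeCore 2 ↥(normalClosure (D : Set X))) = Nat.card D)
    {m : X} (hm : m ∈ normalClosure (D : Set X)) : ∃ d ∈ D, ∃ j ∈ pPrimeCore 2 X, m = d * j := by
  have hDM : D ≤ normalClosure (D : Set X) := le_normalClosure
  have hMn : (normalClosure (D : Set X)).Normal := normalClosure_normal
  have hmap := Lib.Cores.map_subtype_pPrimeCore 2 hMn
  have hle : ∀ y : ↥(normalClosure (D : Set X)), y ∈ pPrimeCore 2 ↥(normalClosure (D : Set X)) →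
      (y : X) ∈ pPrimeCore 2 X := by
    intro y hy
    have h1 : (y : X) ∈ (pPrimeCore 2 ↥(normalClosure (D : Set X))).map (normalClosure (D : Set X)).subtype :=
      ⟨y, hy, rfl⟩
    rw [hmap] at h1
    exact h1.2
  let f : D →* (↥(normalClosure (D : Set X)) ⧸ pPrimeCore 2 ↥(normalClosure (D : Set X))) :=
    (QuotientGroup.mk' _).comp (inclusion hDM)
  have hf : Function.Injective f := by
    rw [injective_iff_map_eq_one]
    intro a ha
    have h1 := hle _ ((QuotientGroup.eq_one_iff _).1 ha)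
    have h2 : (a : X) ∈ D ⊓ pPrimeCore 2 X := ⟨a.2, h1⟩
    rw [inf_core D h2D, mem_bot] at h2
    exact Subtype.ext h2
  have hs : Function.Surjective f := ((Nat.bijective_iff_injective_and_card f).2 ⟨hf, hcard.symm⟩).2
  obtain ⟨d, hd⟩ := hs (QuotientGroup.mk ⟨m, hm⟩)
  have h1 : (inclusion hDM d)⁻¹ * ⟨m, hm⟩ ∈ pPrimeCore 2 ↥(normalClosure (D : Set X)) := QuotientGroup.eq.1 hd
  refine ⟨d, d.2, (d : X)⁻¹ * m, hle _ h1, by group⟩

/-- Involutions which are congruent modulo `O(X)` are conjugate. -/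
theorem conj_of_mul_mem {a b : X} (ha : a * a = 1) (hb : b * b = 1) (h : a * b ∈ pPrimeCore 2 X) :
    ∃ g ∈ pPrimeCore 2 X, g * b * g⁻¹ = a := by
  set c := a * b with hc
  have hodd : Odd (orderOf c) := by
    rw [← Nat.not_even_iff_odd, even_iff_two_dvd]
    intro h2
    have h3 : orderOf (⟨c, h⟩ : pPrimeCore 2 X) ∣ Nat.card ↥(pPrimeCore 2 X) := orderOf_dvd_natCard _
    rw [orderOf_mk] at h3
    exact not_two_dvd_core (h2.trans h3)
  obtain ⟨k, hk⟩ := hodd
  have hbi : b⁻¹ = b := inv_eq_of_mul_eq_one_left hb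
  have hai : a⁻¹ = a := inv_eq_of_mul_eq_one_left ha
  have hinv : b * c * b⁻¹ = c⁻¹ := by
    rw [hc, mul_inv_rev, hai, hbi]
    calc b * (a * b) * b = b * a * (b * b) := by simp only [mul_assoc]
      _ = b * a := by rw [hb, mul_one]
  have hg2 : c ^ (k + 1) * c ^ (k + 1) = c := by
    rw [← pow_add, show k + 1 + (k + 1) = (2 * k + 1) + 1 by ring, pow_succ, ← hk, pow_orderOf_eq_one, one_mul]
  refine ⟨c ^ (k + 1), pow_mem h _, ?_⟩
  have h1 : b * (c ^ (k + 1))⁻¹ * b⁻¹ = c ^ (k + 1) := by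
    have h2 : b * c ^ (k + 1) * b⁻¹ = (c ^ (k + 1))⁻¹ := by
      rw [← conj_pow, hinv, inv_pow]
    have h3 := congrArg (fun z => z⁻¹) h2
    simp only [mul_inv_rev, inv_inv] at h3
    rw [mul_assoc]
    exact h3
  calc c ^ (k + 1) * b * (c ^ (k + 1))⁻¹ = c ^ (k + 1) * (b * (c ^ (k + 1))⁻¹ * b⁻¹) * b := by group
    _ = c ^ (k + 1) * c ^ (k + 1) * b := by rw [h1]
    _ = a := by rw [hg2, hc, mul_assoc, hb, mul_one]

/-- **`X = D O(X)`**. -/
theorem mem_prod (D : Subgroup X) [hD : IsSimpleGroup ↥D] (h2D : 2 ∣ Nat.card D)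
    (hcard : Nat.card (↥(normalClosure (D : Set X)) ⧸ pPrimeCore 2 ↥(normalClosure (D : Set X))) = Nat.card D)
    {s : X} (hs : s ∈ D) (hs2 : s * s = 1) (hs1 : s ≠ 1)
    (hcl : ∀ d ∈ D, d * d = 1 → d ≠ 1 → (∃ h : X, h * s * h⁻¹ = d) → ∃ e ∈ D, e * s * e⁻¹ = d)
    (hC : ∀ c : X, c * s = s * c → ∃ d ∈ D, ∃ j ∈ pPrimeCore 2 X, c = d * j) (h : X) :
    ∃ d ∈ D, ∃ j ∈ pPrimeCore 2 X, h = d * j := by
  have hJn : (pPrimeCore 2 X).Normal := Lib.Cores.pPrimeCore_normal 2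
  have hbot := inf_core D h2D
  have hmem : h * s * h⁻¹ ∈ normalClosure (D : Set X) :=
    normalClosure_normal.conj_mem _ (le_normalClosure hs) h
  obtain ⟨d, hd, j, hj, e⟩ := mem_closure D h2D hcard hmem
  have hsq : (h * s * h⁻¹) * (h * s * h⁻¹) = 1 := by
    calc (h * s * h⁻¹) * (h * s * h⁻¹) = h * (s * s) * h⁻¹ := by group
      _ = 1 := by rw [hs2]; group
  have hdd : d * d = 1 := by
    have h1 : d * d ∈ D ⊓ pPrimeCore 2 X := by
      refine ⟨D.mul_mem hd hd, ?_⟩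
      have h2 : d * d = ((d⁻¹ * j * d⁻¹⁻¹) * j)⁻¹ := by
        rw [eq_inv_iff_mul_eq_one, ← hsq, e]
        group
      rw [h2]
      exact (pPrimeCore 2 X).inv_mem ((pPrimeCore 2 X).mul_mem (hJn.conj_mem j hj d⁻¹) hj)
    rwa [hbot, mem_bot] at h1
  have hd1 : d ≠ 1 := by
    rintro rfl
    rw [one_mul] at e
    have h1 := eq_one_of_sq hj (by rw [← e]; exact hsq)
    rw [h1] at e
    apply hs1
    calc s = h⁻¹ * (h * s * h⁻¹) * h := by group
      _ = 1 := by rw [e]; group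
  obtain ⟨g, hg, hgd⟩ := conj_of_mul_mem hsq hdd (by
    rw [e]
    have hdi : d⁻¹ = d := inv_eq_of_mul_eq_one_left hdd
    have := hJn.conj_mem j hj d
    rwa [hdi] at this)
  obtain ⟨a, ha, hads⟩ := hcl d hd hdd hd1 ⟨g⁻¹ * h, by
    rw [mul_inv_rev, inv_inv]
    calc g⁻¹ * h * s * (h⁻¹ * g) = g⁻¹ * (h * s * h⁻¹) * g := by group
      _ = d := by rw [← hgd]; group⟩
  obtain ⟨d', hd', j', hj', ec⟩ := hC (a⁻¹ * g⁻¹ * h) (by
    have h1 : h * s = g * a * s * a⁻¹ * g⁻¹ * h := by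
      calc h * s = (h * s * h⁻¹) * h := by group
        _ = g * (a * s * a⁻¹) * g⁻¹ * h := by rw [← hgd, hads]
        _ = _ := by group
    calc a⁻¹ * g⁻¹ * h * s = a⁻¹ * g⁻¹ * (h * s) := by group
      _ = s * (a⁻¹ * g⁻¹ * h) := by rw [h1]; group)
  refine ⟨a * d', D.mul_mem ha hd', ((a * d')⁻¹ * g * (a * d')⁻¹⁻¹) * j',
    mul_mem (hJn.conj_mem g hg _) hj', ?_⟩
  have h2 : h = g * a * (a⁻¹ * g⁻¹ * h) := by group
  rw [h2, ec]
  group

/-- An involution with `C_J(s) ≤ Z` inverts `J / Z`. -/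
theorem inverts {x : X} (hx : ∀ y : X, x * y = y * x) {s : X} (hs : s * s = 1)
    (hfix : ∀ j ∈ pPrimeCore 2 X, j * s = s * j → j ∈ zpowers x) (hxJ : x ∈ pPrimeCore 2 X) {j : X}
    (hj : j ∈ pPrimeCore 2 X) : s * j * s⁻¹ * j ∈ zpowers x := by
  have hJn : (pPrimeCore 2 X).Normal := Lib.Cores.pPrimeCore_normal 2
  have hZ : ∀ z ∈ zpowers x, ∀ y : X, z * y = y * z := by
    intro z hz y
    obtain ⟨k, rfl⟩ := mem_zpowers_iff.1 hz
    exact ((show Commute x y from hx y).zpow_left k).eq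
  have hZn : (zpowers x).Normal := by
    constructor
    intro z hz y
    rw [← hZ z hz y, mul_inv_cancel_right]
    exact hz
  have hZJ : zpowers x ≤ pPrimeCore 2 X := by rwa [zpowers_le]
  let J := pPrimeCore 2 X
  let Z' : Subgroup J := (zpowers x).subgroupOf J
  have hZ'n : Z'.Normal := inferInstance
  let φ : (J ⧸ Z') →* (J ⧸ Z') := QuotientGroup.map Z' Z' (MulAut.conjNormal s : MulAut J).toMonoidHom (by
    intro y hy
    show s * (y : X) * s⁻¹ ∈ zpowers x
    exact hZn.conj_mem _ hy s)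
  have hφ : ∀ y : J, φ (QuotientGroup.mk y) = QuotientGroup.mk ((MulAut.conjNormal s : MulAut J) y) := fun y => rfl
  have hsi : s⁻¹ = s := inv_eq_of_mul_eq_one_left hs
  have hfp : MonoidHom.FixedPointFree φ := by
    intro q hq
    obtain ⟨y, rfl⟩ := QuotientGroup.mk_surjective q
    rw [hφ, eq_comm, QuotientGroup.eq] at hq
    have h1 : (y : X)⁻¹ * (s * y * s⁻¹) ∈ zpowers x := hq
    have h2 : (y : X)⁻¹ * (s * y * s⁻¹) = 1 := by
      apply eq_one_of_sq (hZJ h1)
      generalize hz : (y : X)⁻¹ * (s * y * s⁻¹) = z at h1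
      have h3 : s * (y : X) * s⁻¹ = y * z := by rw [← hz]; group
      have h4 : (y : X) = y * z * z := by
        calc (y : X) = s * (s * y * s⁻¹) * s⁻¹ := by
              rw [hsi]
              calc (y : X) = (s * s) * y * (s * s) := by rw [hs, one_mul, mul_one]
                _ = _ := by simp only [mul_assoc]
          _ = (s * y * s⁻¹) * z := by
              rw [h3]
              calc s * (y * z) * s⁻¹ = s * y * (z * s⁻¹) := by simp only [mul_assoc]
                _ = s * y * s⁻¹ * z := by rw [hZ z h1]; simp only [mul_assoc]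
                _ = y * z * z := by rw [h3]
          _ = y * z * z := by rw [h3]
      have h5 : (y : X) * 1 = y * (z * z) := by rw [mul_one, ← mul_assoc]; exact h4
      exact (mul_left_cancel h5).symm
    have h6 : s * (y : X) * s⁻¹ = y := (inv_mul_eq_one.1 h2).symm
    rw [QuotientGroup.eq_one_iff]
    show (y : X) ∈ zpowers x
    apply hfix y y.2
    calc (y : X) * s = (s * y * s⁻¹) * s := by rw [h6]
      _ = s * y := by group
  have hinv : Function.Involutive φ := by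
    intro q
    obtain ⟨y, rfl⟩ := QuotientGroup.mk_surjective q
    rw [hφ, hφ]
    congr 1
    apply Subtype.ext
    show s * (s * (y : X) * s⁻¹) * s⁻¹ = y
    rw [hsi]
    calc s * (s * (y : X) * s) * s = (s * s) * y * (s * s) := by simp only [mul_assoc]
      _ = y := by rw [hs, one_mul, mul_one]
  have h1 := congrFun (hfp.coe_eq_inv_of_involutive hinv) (QuotientGroup.mk ⟨j, hj⟩)
  rw [hφ, ← QuotientGroup.mk_inv, eq_comm, QuotientGroup.eq, inv_inv] at h1
  have h2 : j * (s * j * s⁻¹) ∈ zpowers x := h1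
  have h3 := hZn.conj_mem _ h2 j⁻¹
  have h4 : j⁻¹ * (j * (s * j * s⁻¹)) * j⁻¹⁻¹ = s * j * s⁻¹ * j := by group
  rwa [h4] at h3

/-- **`O(X)` is central.** -/
theorem core_le {x : X} (hx : ∀ y : X, x * y = y * x) (hxJ : x ∈ pPrimeCore 2 X) {s t : X} (hs : s * s = 1)
    (ht : t * t = 1) (hst : s * t = t * s)
    (hfs : ∀ j ∈ pPrimeCore 2 X, j * s = s * j → j ∈ zpowers x)
    (hft : ∀ j ∈ pPrimeCore 2 X, j * t = t * j → j ∈ zpowers x)
    (hfst : ∀ j ∈ pPrimeCore 2 X, j * (s * t) = (s * t) * j → j ∈ zpowers x) : pPrimeCore 2 X ≤ zpowers x := by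
  have hJn : (pPrimeCore 2 X).Normal := Lib.Cores.pPrimeCore_normal 2
  have hZ : ∀ z ∈ zpowers x, ∀ y : X, z * y = y * z := by
    intro z hz y
    obtain ⟨k, rfl⟩ := mem_zpowers_iff.1 hz
    exact ((show Commute x y from hx y).zpow_left k).eq
  intro j hj
  have hstst : (s * t) * (s * t) = 1 := by
    calc (s * t) * (s * t) = s * (t * s) * t := by simp only [mul_assoc]
      _ = (s * s) * (t * t) := by rw [← hst]; simp only [mul_assoc]
      _ = 1 := by rw [hs, ht, one_mul]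
  have h1 := inverts hx ht hft hxJ hj
  have h2 := inverts hx hs hfs hxJ hj
  have h3 := inverts hx hstst hfst hxJ hj
  -- `j²` is central
  have h4 : j * j ∈ zpowers x := by
    generalize e1 : t * j * t⁻¹ * j = z1 at h1
    generalize e2 : s * j * s⁻¹ * j = z2 at h2
    generalize e3 : (s * t) * j * (s * t)⁻¹ * j = z3 at h3
    have a1 : t * j * t⁻¹ = j⁻¹ * z1 := by
      rw [← hZ z1 h1, ← e1]; group
    have a2 : s * j⁻¹ * s⁻¹ = z2⁻¹ * j := by
      have : s * j * s⁻¹ = z2 * j⁻¹ := by rw [← e2]; group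
      calc s * j⁻¹ * s⁻¹ = (s * j * s⁻¹)⁻¹ := by group
        _ = j * z2⁻¹ := by rw [this]; group
        _ = z2⁻¹ * j := (hZ _ (inv_mem h2) j).symm
    have a3 : (s * t) * j * (s * t)⁻¹ = z2⁻¹ * j * z1 := by
      calc (s * t) * j * (s * t)⁻¹ = s * (t * j * t⁻¹) * s⁻¹ := by group
        _ = s * j⁻¹ * (z1 * s⁻¹) := by rw [a1]; simp only [mul_assoc]
        _ = s * j⁻¹ * s⁻¹ * z1 := by rw [hZ z1 h1]; simp only [mul_assoc]
        _ = z2⁻¹ * j * z1 := by rw [a2]
    rw [a3] at e3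
    have h5 : j * j = z2 * z3 * z1⁻¹ := by
      have h6 : z2⁻¹ * j * z1 * j = z2⁻¹ * (j * j) * z1 := by
        calc z2⁻¹ * j * z1 * j = z2⁻¹ * j * (z1 * j) := by simp only [mul_assoc]
          _ = _ := by rw [hZ z1 h1]; simp only [mul_assoc]
      rw [h6] at e3
      rw [← e3]
      group
    rw [h5]
    exact mul_mem (mul_mem h2 h3) (inv_mem h1)
  have hodd : Odd (orderOf j) := by
    rw [← Nat.not_even_iff_odd, even_iff_two_dvd]
    intro h5
    have h6 : orderOf (⟨j, hj⟩ : pPrimeCore 2 X) ∣ Nat.card ↥(pPrimeCore 2 X) := orderOf_dvd_natCard _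
    rw [orderOf_mk] at h6
    exact not_two_dvd_core (h5.trans h6)
  obtain ⟨k, hk⟩ := hodd
  have h5 : j = (j * j) ^ (k + 1) := by
    rw [← pow_two, ← pow_mul, show 2 * (k + 1) = (2 * k + 1) + 1 by ring, pow_succ, ← hk, pow_orderOf_eq_one, one_mul]
  rw [h5]
  exact pow_mem h4 _

end Cfsg.Agent.H678.HNT
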