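import Cfsg.Agent.CpAutHN.Second

/-!
# Groups with a simple subgroup containing a Sylow 2-subgroup (helper678)

`D ≤ X` simple, containing a Sylow 2-subgroup of `X`, `M` the normal closure of `D`. Then `M / O(M)` is simple.
-/

set_option autoImplicit false

namespace Cfsg.Agent.H678.HNT

open Cfsg Subgroup
open Cfsg.Agent

universe u

variable {X : Type u} [Group X] [Finite X]

theorem le_of_even (D : Subgroup X) [hD : IsSimpleGroup ↥D] (T : Sylow 2 X) (hT : (T : Subgroup X) ≤ D)
    (L : Subgroup X) [hL : L.Normal] (h2 : 2 ∣ Nat.card L) : D ≤ L := by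
  have : Fact (Nat.Prime 2) := ⟨Nat.prime_two⟩
  obtain ⟨u, hu⟩ := exists_prime_orderOf_dvd_card' 2 h2
  have hu2 : orderOf (u : X) = 2 := by rw [Subgroup.orderOf_coe, hu]
  obtain ⟨g, hg⟩ := Cfsg.Agent.CpAutHN.Big.mem_sylow_conj T hu2
  have h1 : ((L.subgroupOf D)).Normal := inferInstance
  rcases h1.eq_bot_or_eq_top with h3 | h3
  · exfalso
    have h4 : (⟨g * u * g⁻¹, hT hg⟩ : D) ∈ L.subgroupOf D := hL.conj_mem u u.2 g
    rw [h3, mem_bot] at h4
    have h5 : g * (u : X) * g⁻¹ = 1 := congrArg Subtype.val h4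
    have h6 : (u : X) = 1 := by
      calc (u : X) = g⁻¹ * (g * u * g⁻¹) * g := by group
        _ = 1 := by rw [h5]; group
    rw [h6, orderOf_one] at hu2
    norm_num at hu2
  · exact subgroupOf_eq_top.1 h3

theorem odd_of_not {n : ℕ} (h : ¬ 2 ∣ n) : n.Coprime 2 :=
  ((Nat.Prime.coprime_iff_not_dvd Nat.prime_two).2 h).symm

theorem simple_quot (D : Subgroup X) [hD : IsSimpleGroup ↥D] (h2D : 2 ∣ Nat.card D) (T : Sylow 2 X)
    (hT : (T : Subgroup X) ≤ D) : IsSimpleGroup
      (↥(normalClosure (D : Set X)) ⧸ pPrimeCore 2 ↥(normalClosure (D : Set X))) := by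
  have : Fact (Nat.Prime 2) := ⟨Nat.prime_two⟩
  set M : Subgroup X := normalClosure (D : Set X) with hM
  have hMn : M.Normal := normalClosure_normal
  have hDM : D ≤ M := le_normalClosure
  have hD' : IsSimpleGroup ↥(D.subgroupOf M) :=
    (MulEquiv.isSimpleGroup_congr (subgroupOfEquivOfLe hDM)).2 hD
  let T' : Sylow 2 M := T.subtype (hT.trans hDM)
  have hT' : (T' : Subgroup M) ≤ D.subgroupOf M := by
    intro x hx
    exact hT hx
  have h2D' : 2 ∣ Nat.card ↥(D.subgroupOf M) := by
    rw [Nat.card_congr (subgroupOfEquivOfLe hDM).toEquiv]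
    exact h2D
  -- normal subgroups of even order are everything
  have htop : ∀ K : Subgroup M, K.Normal → 2 ∣ Nat.card K → K = ⊤ := by
    set M' : Subgroup M := normalClosure ((D.subgroupOf M : Subgroup M) : Set M) with hM'
    have hM'n : M'.Normal := normalClosure_normal
    have hDM' : D.subgroupOf M ≤ M' := le_normalClosure
    have h2M' : 2 ∣ Nat.card M' := h2D'.trans (card_dvd_of_le hDM')
    have hle : ∀ K : Subgroup M, K.Normal → 2 ∣ Nat.card K → M' ≤ K := by
      intro K hK h2K
      exact normalClosure_le_normal (le_of_even (D.subgroupOf M) T' hT' K h2K)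
    have hstab : ∀ (h : X) (m : M), m ∈ M' → MulAut.conjNormal h m ∈ M' := by
      intro h m hm
      have h1 : (M'.map (MulAut.conjNormal h : MulAut M).toMonoidHom).Normal :=
        hM'n.map _ (MulAut.conjNormal h : MulAut M).surjective
      have h2 : Nat.card ↥(M'.map (MulAut.conjNormal h : MulAut M).toMonoidHom) = Nat.card M' :=
        card_map_of_injective (MulAut.conjNormal h : MulAut M).injective
      have h3 := hle _ h1 (by rw [h2]; exact h2M')
      have h4 := Subgroup.eq_of_le_of_card_ge h3 (by rw [h2])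
      rw [h4]
      exact ⟨m, hm, rfl⟩
    have hn : (M'.map M.subtype).Normal := by
      constructor
      rintro _ ⟨m, hm, rfl⟩ h
      exact ⟨MulAut.conjNormal h m, hstab h m hm, rfl⟩
    have hMM : M ≤ M'.map M.subtype := by
      refine normalClosure_le_normal ?_
      intro d hd
      exact ⟨⟨d, hDM hd⟩, hDM' hd, rfl⟩
    intro K hK h2K
    rw [eq_top_iff]
    intro m _
    obtain ⟨m', hm', e⟩ := hMM m.2
    have : m' = m := Subtype.ext e
    rw [← this]
    exact hle K hK h2K hm'
  have hcop : ¬ 2 ∣ Nat.card ↥(pPrimeCore 2 M) :=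
    (Nat.Prime.coprime_iff_not_dvd Nat.prime_two).1 (Lib.Cores.pPrimeCore_coprime (G := M) 2).symm
  have hnt : Nontrivial (M ⧸ pPrimeCore 2 M) := by
    rw [QuotientGroup.nontrivial_iff]
    intro h
    rw [h, Nat.card_congr topEquiv.toEquiv] at hcop
    exact hcop (h2D'.trans (card_subgroup_dvd_card _))
  refine ⟨fun N hN => ?_⟩
  have hK : (N.comap (QuotientGroup.mk' (pPrimeCore 2 M))).Normal := inferInstance
  by_cases h2 : 2 ∣ Nat.card ↥(N.comap (QuotientGroup.mk' (pPrimeCore 2 M)))
  · right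
    have h3 := htop _ hK h2
    rw [eq_top_iff]
    intro x _
    obtain ⟨y, rfl⟩ := QuotientGroup.mk'_surjective (pPrimeCore 2 M) x
    have : y ∈ N.comap (QuotientGroup.mk' (pPrimeCore 2 M)) := by rw [h3]; exact mem_top _
    exact this
  · left
    have h3 : N.comap (QuotientGroup.mk' (pPrimeCore 2 M)) ≤ pPrimeCore 2 M :=
      Lib.Cores.le_pPrimeCore hK (odd_of_not h2)
    rw [eq_bot_iff]
    intro x hx
    obtain ⟨y, rfl⟩ := QuotientGroup.mk'_surjective (pPrimeCore 2 M) x
    rw [mem_bot]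
    exact (QuotientGroup.eq_one_iff y).2 (h3 hx)

end Cfsg.Agent.H678.HNT
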